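import Groth.Agent.Lib.ModFlat16.ExtZero
import Groth.Prelude.Def_ModSite2
import Mathlib.CategoryTheory.Sites.Point.Over
import Mathlib.Algebra.Category.Grp.Colimits

/-! Stalks of extensions by zero. -/

universe u

open CategoryTheory CategoryTheory.Limits Opposite DirectSum

set_option linter.style.haveILetI false
set_option backward.isDefEq.respectTransparency false
set_option backward.isDefEq.respectTransparency.types false

namespace Groth.Agent.ExtStalk16

open Groth.Agent.ModFlat16
open Groth.Agent.KFlat.SiteW (PM)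

variable {C : Type u} [SmallCategory C] {J : GrothendieckTopology C} (R : Cᵒᵖ ⥤ CommRingCat.{u})
  (U : C) (p : GrothendieckTopology.Point.{u} J) {R}

variable (M : PM (overR R U))

/-- the stalks at the points over `p` -/
noncomputable abbrev F (x : p.fiber.obj U) : AddCommGrpCat.{u} := (p.over x).presheafFiber.obj M.presheaf

/-- the map on a summand -/
noncomputable def fwdSummand {V : C} (y : p.fiber.obj V) (φ : V ⟶ U) :
    AddCommGrpCat.of (Fib M (op V) φ) ⟶ ∐ F U p M :=
  (p.over (p.fiber.map φ y)).toPresheafFiber (Over.mk φ) ⟨y, rfl⟩ M.presheaf ≫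
    Sigma.ι (F U p M) (p.fiber.map φ y)

lemma toPresheafFiber_congr {x x' : p.fiber.obj U} (h : x = x') {A : Over U}
    (y : (p.over x).fiber.obj A) (y' : (p.over x').fiber.obj A) (hy : y.1 = y'.1) :
    (p.over x).toPresheafFiber A y M.presheaf ≫ Sigma.ι (F U p M) x =
      (p.over x').toPresheafFiber A y' M.presheaf ≫ Sigma.ι (F U p M) x' := by
  subst h
  obtain rfl : y = y' := Subtype.ext hy
  rfl

lemma fwdSummand_map {V W : C} (f : W ⟶ V) (y : p.fiber.obj W) (φ : V ⟶ U) :
    AddCommGrpCat.ofHom (M.map (resHom (U := U) (V := op V) (W := op W) f.op φ)).hom.toAddMonoidHom ≫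
      fwdSummand U p M y (f ≫ φ) = fwdSummand U p M (p.fiber.map f y) φ := by
  rw [fwdSummand, fwdSummand]
  have hx : p.fiber.map φ (p.fiber.map f y) = p.fiber.map (f ≫ φ) y :=
    (Functor.map_comp_apply p.fiber f φ y).symm
  refine Eq.trans ?_ (toPresheafFiber_congr U p M hx.symm (A := Over.mk φ)
    ((p.over (p.fiber.map (f ≫ φ) y)).fiber.map (Over.homMk f : Over.mk (f ≫ φ) ⟶ Over.mk φ) ⟨y, rfl⟩)
    ⟨p.fiber.map f y, rfl⟩ rfl)
  rw [← Category.assoc]
  congr 1
  exact (p.over (p.fiber.map (f ≫ φ) y)).toPresheafFiber_w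
    (Over.homMk f : Over.mk (f ≫ φ) ⟶ Over.mk φ) ⟨y, rfl⟩ M.presheaf

/-- the comparison map -/
noncomputable def fwd : p.presheafFiber.obj (preExtAb M) ⟶ ∐ F U p M :=
  p.presheafFiberDesc
    (fun V y => AddCommGrpCat.ofHom (by
      classical
      exact DirectSum.toAddMonoid fun φ => (fwdSummand U p M y φ).hom))
    (fun W V f y => by
      classical
      refine AddCommGrpCat.ext fun z => ?_
      change DirectSum.toAddMonoid (fun φ => (fwdSummand U p M y φ).hom) (extRes M f.op z) =
        DirectSum.toAddMonoid (fun φ => (fwdSummand U p M (p.fiber.map f y) φ).hom) z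
      induction z using ext0_induction with
      | h0 => simp
      | hs φ x =>
        rw [extRes_sg]
        refine (DirectSum.toAddMonoid_of (β := fun φ => (Fib M (op W) φ : Type u)) _ (f ≫ φ) _).trans
          (Eq.trans ?_ (DirectSum.toAddMonoid_of (β := fun φ => (Fib M (op V) φ : Type u)) _ φ x).symm)
        exact ConcreteCategory.congr_hom (fwdSummand_map U p M f y φ) x
      | ha a b ha hb => rw [map_add, map_add, map_add, ha, hb])

/-- the inverse on a summand -/
noncomputable def bwdSummand (x : p.fiber.obj U) : F U p M x ⟶ p.presheafFiber.obj (preExtAb M) :=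
  (p.over x).presheafFiberDesc
    (fun A y => AddCommGrpCat.ofHom (sg (U := U) M (V := op A.left) A.hom).toAddMonoidHom ≫
      p.toPresheafFiber A.left y.1 (preExtAb M))
    (fun B A g y => by
      refine Eq.trans ?_ (congrArg (AddCommGrpCat.ofHom
        (sg (U := U) M (V := op A.left) A.hom).toAddMonoidHom ≫ ·)
          (p.toPresheafFiber_w g.left y.1 (preExtAb M)))
      rw [← Category.assoc, ← Category.assoc]
      congr 1
      refine AddCommGrpCat.ext fun z => ?_
      change sg (U := U) M (V := op B.left) B.hom (M.map g.op z) =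
        extRes M g.left.op (sg (U := U) M (V := op A.left) A.hom z)
      rw [extRes_sg]
      have hw : g.left ≫ A.hom = B.hom := Over.w g
      let b : op (Over.mk B.hom) ⟶ op (Over.mk (g.left ≫ A.hom)) :=
        (Over.homMk (𝟙 B.left) (by simp [hw]) : Over.mk (g.left ≫ A.hom) ⟶ Over.mk B.hom).op
      have hg : resHom (U := U) (V := op A.left) (W := op B.left) g.left.op A.hom = g.op ≫ b :=
        Quiver.Hom.unop_inj (Over.OverMorphism.ext (Category.id_comp _).symm)
      refine Eq.symm ((congrArg (sg M _) ((M.congr_map_apply hg z).trans (M.map_comp_apply _ b z))).trans ?_)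
      refine (sg_map_eq (U := U) M (V := op B.left) (φ := g.left ≫ A.hom) (ψ := B.hom) b (𝟙 _) rfl
        (M.map g.op z)).trans ?_
      exact congrArg _ (map_id_apply' M _))

lemma to_fwd {V : C} (y : p.fiber.obj V) (φ : V ⟶ U) :
    AddCommGrpCat.ofHom (sg (U := U) M (V := op V) φ).toAddMonoidHom ≫
      p.toPresheafFiber V y (preExtAb M) ≫ fwd U p M = fwdSummand U p M y φ := by
  classical
  rw [fwd]
  refine (congrArg (AddCommGrpCat.ofHom (sg (U := U) M (V := op V) φ).toAddMonoidHom ≫ ·)
    (p.toPresheafFiber_presheafFiberDesc _ _ V y)).trans ?_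
  refine AddCommGrpCat.ext fun x => ?_
  exact DirectSum.toAddMonoid_of (β := fun φ => (Fib M (op V) φ : Type u))
    (fun φ => (fwdSummand U p M y φ).hom) φ x

lemma to_bwd (x : p.fiber.obj U) (A : Over U) (y : (p.over x).fiber.obj A) :
    (p.over x).toPresheafFiber A y M.presheaf ≫ bwdSummand U p M x =
      AddCommGrpCat.ofHom (sg (U := U) M (V := op A.left) A.hom).toAddMonoidHom ≫
        p.toPresheafFiber A.left y.1 (preExtAb M) :=
  (p.over x).toPresheafFiber_presheafFiberDesc _ _ A y

/-- the stalk of the presheaf extension by zero -/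
noncomputable def fiberIso : p.presheafFiber.obj (preExtAb M) ≅ ∐ F U p M where
  hom := fwd U p M
  inv := Sigma.desc (bwdSummand U p M)
  hom_inv_id := by
    classical
    refine p.presheafFiber_hom_ext fun V y => AddCommGrpCat.ext fun z => ?_
    induction z using ext0_induction with
    | h0 => simp
    | hs φ x =>
      have e1 := ConcreteCategory.congr_hom (to_fwd U p M y φ) x
      have e2 := ConcreteCategory.congr_hom
        (to_bwd U p M (p.fiber.map φ y) (Over.mk φ) ⟨y, rfl⟩) x
      rw [Category.comp_id, ConcreteCategory.comp_apply, ConcreteCategory.comp_apply]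
      refine (congrArg (Sigma.desc (bwdSummand U p M)) e1).trans ?_
      rw [fwdSummand, ← ConcreteCategory.comp_apply, Category.assoc, Sigma.ι_desc]
      exact e2
    | ha a b ha hb => rw [map_add, map_add, ha, hb]
  inv_hom_id := by
    classical
    refine Sigma.hom_ext _ _ fun x => ?_
    rw [Sigma.ι_desc_assoc, Category.comp_id]
    refine (p.over x).presheafFiber_hom_ext fun A y => ?_
    rw [← Category.assoc, to_bwd, Category.assoc, to_fwd, fwdSummand]
    exact toPresheafFiber_congr U p M (x := p.fiber.map A.hom y.1) (x' := x) y.2 (A := A) ⟨y.1, rfl⟩ y rfl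

variable (O : Sheaf J CommRingCat.{u})

theorem nonempty_stalk_iso (G : ModSite.Mod (O.over U)) :
    Nonempty (ModSite.stalkAb p ((ModSite.extZero O U).obj G) ≅
      ∐ fun x : p.fiber.obj U => ModSite.stalkAb (p.over x) G) := by
  let M := (ModSite.toPre (O.over U)).obj G
  let η := (PresheafOfModules.toPresheaf _).map
    ((KFlat.Site.adj O).unit.app ((preE O U).obj M))
  have hW : J.W η := KFlat.Site.W_unit O ((preE O U).obj M)
  haveI : IsIso (p.presheafFiber.map η) := p.W_isInvertedBy_presheafFiber' η hW
  exact ⟨(p.sheafFiber (A := AddCommGrpCat.{u})).mapIso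
      ((SheafOfModules.toSheaf (ModSite.ringSh O)).mapIso ((extIso O U).app G)) ≪≫
    (asIso (p.presheafFiber.map η)).symm ≪≫ fiberIso (R := O.obj) U p M⟩

end Groth.Agent.ExtStalk16
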